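import Cfsg.Agent.H11.Ly3A.SmallCert

/-! The classes in three small stabilisers (generated data). -/

set_option autoImplicit false
set_option maxRecDepth 100000

namespace H11.Ly3A.Data

/-- stabiliser 2 -/
def small2 : SmallData where
  Y := [1,5,6,3,5,0,3,1,2,4,2,7,4,0]
  n := [1,5,6,3,5]
  gens := [
    [0,1,4,0,0,2,2,0,3,3,0,5,1,5,0,4,1,4,0,2,0,3,6,4,1,5,1,8,1],
    [0,0,0,2,4,3,0,0,2,0,3,0,6,5,0,3,1,8,3],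
    [0,2,0,3,3,4,2,2,2,0,3,3,0,6,4,2,5,1,3,1],
    [0,9,0,4,0,5,7,2,1,3,1,5,0,5,1,4,0,4,1,2,2,1,3,3,1,1,5,0,1],
    [2,9,0,2,1,4,7,1,2,1,3,1,1,2,5,3,1,1,1],
    [0,2,0,4,3,5,7,1,2,2,1,3,3,3,5,2,2,1,3,1]]
  qg := [
    [0,2,2],
    [0,5,1,2,4]]
  q := [
    [],
    [0],
    [1],
    [0,0],
    [0,1],
    [1,1],
    [0,0,1],
    [0,1,1],
    [0,0,1,1]]
  qnxt := [
    [1,2],
    [3,4],
    [4,5],
    [0,6],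
    [6,7],
    [7,0],
    [2,8],
    [8,1],
    [5,3]]
  Z := [
    [0,1,4,0,0,2,2,0,3,3,0,5,1,5,0,4,1,4,0,2,0,3,6,4,1,5,1,8,1,0,2,0,3,3,4,2,2,2,0,3,3,0,6,4,2,5,1,3,1,0,2,0,3,3,4,2,2,2,0,3,3,0,6,4,2,5,1,3,1],
    [0,1,4,0,0,2,2,0,3,3,0,5,1,5,0,4,1,4,0,2,0,3,6,4,1,5,1,8,1,0,2,0,3,3,4,2,2,2,0,3,3,0,6,4,2,5,1,3,1,0,2,0,3,3,4,2,2,2,0,3,3,0,6,4,2,5,1,3,1,0,1,4,0,0,2,2,0,3,3,0,5,1,5,0,4,1,4,0,2,0,3,6,4,1,5,1,8,1,0,2,0,3,3,4,2,2,2,0,3,3,0,6,4,2,5,1,3,1,0,2,0,3,3,4,2,2,2,0,3,3,0,6,4,2,5,1,3,1,0,1,4,0,0,2,2,0,3,3,0,5,1,5,0,4,1,4,0,2,0,3,6,4,1,5,1,8,1,0,2,0,4,3,5,7,1,2,2,1,3,3,3,5,2,2,1,3,1,0,0,0,2,4,3,0,0,2,0,3,0,6,5,0,3,1,8,3,0,2,0,3,3,4,2,2,2,0,3,3,0,6,4,2,5,1,3,1,2,9,0,2,1,4,7,1,2,1,3,1,1,2,5,3,1,1,1]]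
  cl := [
    [],
    [0],
    [1],
    [2],
    [3],
    [5],
    [0,0],
    [0,1],
    [0,2],
    [0,4],
    [0,5],
    [1,2],
    [1,3],
    [1,5],
    [2,4],
    [3,2],
    [3,5],
    [5,5],
    [0,2,2],
    [0,5,5]]
  cnxt := [
    [1,2,3,4,4,5],
    [6,7,8,0,9,10],
    [10,10,11,12,0,13],
    [8,12,6,10,14,0],
    [0,0,15,7,10,16],
    [15,9,0,9,7,17],
    [7,13,17,1,15,3],
    [4,5,14,6,1,15],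
    [12,16,18,3,11,1],
    [5,1,13,13,5,12],
    [3,4,1,2,2,19],
    [18,8,12,19,17,2],
    [2,19,9,8,3,11],
    [9,18,2,17,6,9],
    [19,3,16,16,19,7],
    [17,6,7,5,18,4],
    [14,17,4,18,8,14],
    [13,11,5,15,16,6],
    [16,15,19,11,13,8],
    [11,14,10,14,12,18]]
  fate := [([], 0),
    ([], 1),
    ([1,0,2], 1),
    ([3,2,1,2], 1),
    ([0,4], 0),
    ([0,1,1,3], 1),
    ([], 2),
    ([0,1,0], 2),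
    ([0,0], 0)]

/-- stabiliser 3 -/
def small3 : SmallData where
  Y := [0,5,2,2,1,3,0,3,1,2,2,0,3,3,4,1]
  n := [0,5,2,2,1,3]
  gens := [
    [0,2,2,0,3,3,4,2,0,3,2,2,0,3,3,3,4,2,0,2,0,3,3,6,8,3,8,6],
    [0,2,0,3,2,4,3,0,2,0,3,2,2,0,3,3,2,0,3,0,3,4,2,6,4,2,7,8,4],
    [7,9,2,9,7,2,2,1,3,1,3,5,2,2,2,1,3,3,2,1,3,5,2,2,1,3,3,1],
    [5,9,6,3,5,7,3,5,2,1,2,1,3,2,2,1,3,3,2,1,3,1,2,5,3,2,1,3,1]]
  qg := [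
    [0,0],
    [0,1,2,1]]
  q := [
    [],
    [0],
    [1],
    [0,0],
    [0,1],
    [1,1],
    [0,0,1],
    [0,1,1],
    [0,0,1,1]]
  qnxt := [
    [1,2],
    [3,4],
    [4,5],
    [0,6],
    [6,7],
    [7,0],
    [2,8],
    [8,1],
    [5,3]]
  Z := [
    [0,2,2,0,3,3,4,2,0,3,2,2,0,3,3,3,4,2,0,2,0,3,3,6,8,3,8,6,0,2,2,0,3,3,4,2,0,3,2,2,0,3,3,3,4,2,0,2,0,3,3,6,8,3,8,6],
    [0,2,2,0,3,3,4,2,0,3,2,2,0,3,3,3,4,2,0,2,0,3,3,6,8,3,8,6,0,2,0,3,2,4,3,0,2,0,3,2,2,0,3,3,2,0,3,0,3,4,2,6,4,2,7,8,4,7,9,2,9,7,2,2,1,3,1,3,5,2,2,2,1,3,3,2,1,3,5,2,2,1,3,3,1,0,2,0,3,2,4,3,0,2,0,3,2,2,0,3,3,2,0,3,0,3,4,2,6,4,2,7,8,4]]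
  cl := [
    [],
    [0]]
  cnxt := [
    [1,1,1,1],
    [0,0,0,0]]
  fate := [([], 0),
    ([], 1),
    ([], 2),
    ([1,0,0,1,0,0,1], 1),
    ([0,1,0,0,1,0,0,1], 2),
    ([1,0,0,1,0,0,1], 2),
    ([], 0),
    ([0], 0),
    ([0], 2)]

/-- stabiliser 4 -/
def small4 : SmallData where
  Y := [2,0,3,1,2,3]
  n := [2]
  gens := [
    [0,0,0,1,4,0,1,4,0,2,2,0,3,3,6,4,4,7],
    [2,2,0,3,3,2,0,3,0,4,5,1,5,0,4,1,4,0,2,0,3,8,0,8,3,0,2],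
    [6,5,5,7,2,2,1,3,3,1,5,0,1,5,0,1,1,1],
    [3,1,2,9,1,9,2,1,3,1,5,0,5,1,4,0,4,5,1,2,1,3,2,2,1,3,3]]
  qg := [
    [0,0,1,0,1],
    [1,0,0,3,3,0,1]]
  q := [
    [],
    [0],
    [1],
    [0,0],
    [0,1],
    [1,0],
    [1,1],
    [0,0,1],
    [0,1,0],
    [0,1,1],
    [1,0,0],
    [1,0,1],
    [1,1,0],
    [0,0,1,0],
    [0,0,1,1],
    [0,1,0,0],
    [0,1,0,1],
    [0,1,1,0],
    [1,0,1,1],
    [1,1,0,1],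
    [0,0,1,0,0],
    [0,0,1,0,1],
    [0,0,1,1,0],
    [0,1,0,1,1],
    [0,1,1,0,1],
    [0,0,1,0,1,1],
    [0,0,1,1,0,1]]
  qnxt := [
    [1,2],
    [3,5],
    [4,6],
    [0,10],
    [7,11],
    [8,12],
    [9,0],
    [2,17],
    [13,14],
    [14,18],
    [15,16],
    [16,19],
    [17,1],
    [5,21],
    [6,24],
    [20,22],
    [21,3],
    [22,23],
    [23,20],
    [24,4],
    [10,9],
    [11,25],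
    [12,26],
    [25,7],
    [26,8],
    [18,13],
    [19,15]]
  Z := [
    [0,0,0,1,4,0,1,4,0,2,2,0,3,3,6,4,4,7,0,0,0,1,4,0,1,4,0,2,2,0,3,3,6,4,4,7,2,2,0,3,3,2,0,3,0,4,5,1,5,0,4,1,4,0,2,0,3,8,0,8,3,0,2,0,0,0,1,4,0,1,4,0,2,2,0,3,3,6,4,4,7,2,2,0,3,3,2,0,3,0,4,5,1,5,0,4,1,4,0,2,0,3,8,0,8,3,0,2]]
  cl := [
    [],
    [0],
    [1],
    [2],
    [3],
    [0,0],
    [0,1],
    [1,0],
    [1,1],
    [1,2],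
    [2,1],
    [2,3],
    [3,0],
    [3,2],
    [0,0,3],
    [0,1,0],
    [0,1,2],
    [1,0,1],
    [1,0,3],
    [1,1,2],
    [1,2,1],
    [1,2,3],
    [2,1,0],
    [2,1,1],
    [2,3,0],
    [2,3,2],
    [2,3,3],
    [3,0,0],
    [3,0,1],
    [3,2,1],
    [0,0,3,0],
    [0,0,3,2],
    [0,0,3,3],
    [0,1,0,0],
    [0,1,2,2],
    [0,1,2,3],
    [1,0,1,2],
    [1,0,3,0],
    [1,0,3,2],
    [1,0,3,3],
    [1,1,2,2],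
    [1,1,2,3],
    [1,2,1,0],
    [1,2,3,2],
    [2,1,0,0],
    [2,1,1,0],
    [2,1,1,2],
    [2,3,0,1],
    [2,3,0,3],
    [2,3,2,2],
    [2,3,3,0],
    [3,0,0,1],
    [0,0,3,2,2],
    [0,1,0,0,0],
    [1,1,2,3,0],
    [2,1,1,0,1]]
  cnxt := [
    [1,2,3,4],
    [5,6,0,6],
    [7,8,9,0],
    [0,10,7,11],
    [12,0,13,5],
    [9,4,1,14],
    [15,1,16,1],
    [3,17,2,18],
    [10,15,19,2],
    [2,20,5,21],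
    [22,23,8,3],
    [24,3,25,26],
    [27,28,4,17],
    [4,29,21,22],
    [30,5,31,32],
    [33,32,6,8],
    [6,25,34,35],
    [20,12,36,7],
    [37,7,38,39],
    [8,22,40,41],
    [42,26,17,9],
    [13,9,43,23],
    [44,13,10,19],
    [45,21,46,10],
    [38,47,11,48],
    [11,41,49,16],
    [50,11,35,20],
    [28,51,12,30],
    [43,31,27,12],
    [47,35,51,13],
    [46,27,14,50],
    [14,44,52,28],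
    [40,14,44,15],
    [53,50,15,37],
    [16,46,39,46],
    [26,16,42,29],
    [17,53,50,52],
    [49,33,18,38],
    [18,37,24,40],
    [34,18,53,44],
    [19,38,32,51],
    [54,19,48,25],
    [35,52,20,54],
    [21,49,28,49],
    [32,39,22,31],
    [52,55,23,55],
    [23,34,30,34],
    [55,54,29,24],
    [41,24,55,53],
    [25,43,37,43],
    [36,30,26,33],
    [29,40,54,27],
    [31,36,45,42],
    [39,48,33,36],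
    [51,42,41,47],
    [48,45,47,45]]
  fate := [([], 0),
    ([], 1),
    ([0,3,3,0], 1),
    ([1,1,2,3,3,0], 1),
    ([0,3,0,1,1,1], 1),
    ([1,0,3,0], 1),
    ([0,0,3,3], 1),
    ([1,0,1,2], 1),
    ([0,0,0,1,2,3,3], 1),
    ([3,3,3,2,3,0], 1),
    ([2,1,0,1,1,1], 1),
    ([0,3,2,3], 1),
    ([3,0,1,1,2,1], 1),
    ([2,2,3,0,3,2], 1),
    ([3,0,3,2,1], 1),
    ([2,1,2,3], 1),
    ([1,1,2,2], 1),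
    ([1,2,3,0,1,0], 1),
    ([1,0,0,3,3,0,1], 1),
    ([1,2,1,0,0,1,1], 1),
    ([1,1,1,2,1,1], 1),
    ([0,3,2,1,2,2], 1),
    ([3,2,3,3,3], 1),
    ([3,2,2,1,1], 1),
    ([0,0,3,0,3,0], 1),
    ([0,1,1,1], 0),
    ([2,2,1,2], 0)]

end H11.Ly3A.Data
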