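import Cfsg.Agent.H97.Ly.Cert
import Cfsg.Agent.H11.Ly3A.Data.Loc
import Cfsg.Agent.H11.Ly3A.Data.Small

/-! Finite checks on the 19530 points (generated data). -/

set_option autoImplicit false
set_option maxRecDepth 100000
set_option Elab.async false

namespace H11.Ly3A.Data

open H97.Ly (T10)

theorem loc_rel : loc.chkRel T10 H97.Ly.Data.base = true := by decide +kernel
theorem loc_F : loc.chkF T10 = true := by decide +kernel
theorem loc_img : loc.chkImg T10 = true := by decide +kernel
theorem loc_K : loc.chkK T10 H97.Ly.Data.base = true := by decide +kernel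
theorem loc_orb : loc.chkOrb = true := by decide +kernel
theorem loc_perf : loc.chkPerf = true := by decide +kernel
theorem loc_cpl0 : loc.chkComplete T10 0 2442 = true := by decide +kernel
theorem loc_cpl1 : loc.chkComplete T10 2442 2442 = true := by decide +kernel
theorem loc_cpl2 : loc.chkComplete T10 4884 2442 = true := by decide +kernel
theorem loc_cpl3 : loc.chkComplete T10 7326 2442 = true := by decide +kernel
theorem loc_cpl4 : loc.chkComplete T10 9768 2442 = true := by decide +kernel
theorem loc_cpl5 : loc.chkComplete T10 12210 2442 = true := by decide +kernel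
theorem loc_cpl6 : loc.chkComplete T10 14652 2442 = true := by decide +kernel
theorem loc_cpl7 : loc.chkComplete T10 17094 2436 = true := by decide +kernel
theorem small2_Q : small2.chkQ T10 H97.Ly.Data.base 2 = true := by decide +kernel
theorem small2_fate : small2.chkFate T10 H97.Ly.Data.base loc.X = true := by decide +kernel
theorem small2_class : small2.chkClass T10 H97.Ly.Data.base 20 = true := by decide +kernel
theorem small3_Q : small3.chkQ T10 H97.Ly.Data.base 2 = true := by decide +kernel
theorem small3_fate : small3.chkFate T10 H97.Ly.Data.base loc.X = true := by decide +kernel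
theorem small3_class : small3.chkClass T10 H97.Ly.Data.base 2 = true := by decide +kernel
theorem small4_Q : small4.chkQ T10 H97.Ly.Data.base 3 = true := by decide +kernel
theorem small4_fate : small4.chkFate T10 H97.Ly.Data.base loc.X = true := by decide +kernel
theorem small4_class : small4.chkClass T10 H97.Ly.Data.base 56 = true := by decide +kernel

theorem undo10 : ((List.range 10).all fun l => H77.HN.agree T10 H97.Ly.Data.base [l, l ^^^ 1] []) = true := by
  decide +kernel

theorem sg1_fix : ((H97.Ly.cert.sg 1).all fun l => Nat.beq (H77.HN.runK T10 (H97.Ly.wordOf l) 0) 0) = true := by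
  decide +kernel

theorem gens2 : small2.gens = (H97.Ly.cert.sg 2).map H97.Ly.wordOf ++
    ((H97.Ly.cert.sg 2).map H97.Ly.wordOf).map (H77.HN.invw fun l => l ^^^ 1) := by decide +kernel

theorem gens3 : small3.gens = (H97.Ly.cert.sg 3).map H97.Ly.wordOf ++
    ((H97.Ly.cert.sg 3).map H97.Ly.wordOf).map (H77.HN.invw fun l => l ^^^ 1) := by decide +kernel

theorem gens4 : small4.gens = (H97.Ly.cert.sg 4).map H97.Ly.wordOf ++
    ((H97.Ly.cert.sg 4).map H97.Ly.wordOf).map (H77.HN.invw fun l => l ^^^ 1) := by decide +kernel

theorem loc_complete : ∀ p < 19530, H77.HN.run T10 loc.X p = p → p ∈ loc.F := by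
  intro p hp h
  have key : ∀ lo n, loc.chkComplete T10 lo n = true → lo ≤ p → p < lo + n → p ∈ loc.F := by
    intro lo n hc h1 h2
    have h3 := List.all_eq_true.1 hc p (List.mem_range'_1.2 ⟨h1, h2⟩)
    rw [H77.HN.runK_eq, h] at h3
    simpa using h3
  rcases Nat.lt_or_ge p 2442 with h0 | h0
  · exact key _ _ loc_cpl0 (by omega) (by omega)
  rcases Nat.lt_or_ge p 4884 with h1 | h1
  · exact key _ _ loc_cpl1 (by omega) (by omega)
  rcases Nat.lt_or_ge p 7326 with h2 | h2
  · exact key _ _ loc_cpl2 (by omega) (by omega)
  rcases Nat.lt_or_ge p 9768 with h3 | h3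
  · exact key _ _ loc_cpl3 (by omega) (by omega)
  rcases Nat.lt_or_ge p 12210 with h4 | h4
  · exact key _ _ loc_cpl4 (by omega) (by omega)
  rcases Nat.lt_or_ge p 14652 with h5 | h5
  · exact key _ _ loc_cpl5 (by omega) (by omega)
  rcases Nat.lt_or_ge p 17094 with h6 | h6
  · exact key _ _ loc_cpl6 (by omega) (by omega)
  exact key _ _ loc_cpl7 (by omega) (by omega)

end H11.Ly3A.Data
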