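import Cfsg.Agent.H11.Ly3A.Trace
import Cfsg.Agent.H68.Ly.RepWord
import Cfsg.Agent.H77.HN.Words
import Cfsg.Agent.H11.Ly3A.Data.Loc
import Cfsg.Agent.H11.Ly3A.Data.Small

/-! Words in the five generators and their checks in the 111-dimensional representation (generated data). -/

set_option autoImplicit false
set_option maxRecDepth 100000
set_option Elab.async false

namespace H11.Ly3A.Data

open H68.Ly (rows genWord invWord redWord isOneR)
open H77.HN (invw)

/-- the five generators (and inverses) of a letter, read as a left-to-right product -/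
def toTab1 : ℕ → List ℕ
  | 0 => [0] | 1 => [5] | 2 => [1] | 3 => [6] | 4 => [2] | 5 => [7] | 6 => [3] | 7 => [8]
  | 8 => genWord .e | 9 => invWord (genWord .e) | _ => []

/-- the left-to-right product of a word -/
def toTab (w : List ℕ) : List ℕ := w.flatMap toTab1

/-- the word of the value of `w` -/
def valTab (w : List ℕ) : List ℕ := toTab (invw (fun l => l ^^^ 1) w)

/-- the fixed point witnesses: last factors -/
def kWord : ℕ → List ℕ
  | 1 => [2]
  | 2 => [6,2,0,2,2,9]
  | 3 => [1,9,0,0,9]
  | 4 => [2]
  | _ => []

/-- the conjugating words -/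
def nWord : ℕ → List ℕ
  | 1 => loc.n1
  | 2 => small2.n
  | 3 => small3.n
  | 4 => small4.n
  | _ => []

/-- the base cosets -/
def qTab : ℕ → List ℕ
  | 1 => toTab [] ++ [9] ++ toTab []
  | 2 => toTab [] ++ [9] ++ toTab [8,7] ++ toTab [] ++ [9] ++ toTab []
  | 3 => toTab [] ++ [9] ++ toTab [8,6,4,6] ++ toTab [] ++ [9] ++ toTab []
  | 4 => toTab [] ++ [9] ++ toTab [6] ++ toTab [] ++ [9] ++ toTab []
  | _ => []

/-- the element of the centraliser in double coset `i` -/
def hTab (i : ℕ) : List ℕ := valTab (nWord i) ++ qTab i ++ toTab (kWord i)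

/-- its commutator with x -/
def commTab (i : ℕ) : List ℕ :=
  redWord (hTab i ++ toTab loc.X ++ invWord (hTab i) ++ invWord (toTab loc.X))

/-- the word used for the trace of a value -/
def traceTab (w : List ℕ) : List ℕ := redWord (valTab w)

theorem comm1 : isOneR ((commTab 1).map rows) = true := by decide +kernel
theorem comm2 : isOneR ((commTab 2).map rows) = true := by decide +kernel
theorem comm3 : isOneR ((commTab 3).map rows) = true := by decide +kernel
theorem comm4 : isOneR ((commTab 4).map rows) = true := by decide +kernel
theorem trace_x : traceIs 1 ((traceTab loc.X).map rows) = true := by decide +kernel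
theorem trace2_0 : traceIs 3 ((traceTab (small2.Z.getD 0 [])).map rows) = true := by decide +kernel
theorem trace2_1 : traceIs 3 ((traceTab (small2.Z.getD 1 [])).map rows) = true := by decide +kernel
theorem trace3_0 : traceIs 3 ((traceTab (small3.Z.getD 0 [])).map rows) = true := by decide +kernel
theorem trace3_1 : traceIs 3 ((traceTab (small3.Z.getD 1 [])).map rows) = true := by decide +kernel
theorem trace4_0 : traceIs 3 ((traceTab (small4.Z.getD 0 [])).map rows) = true := by decide +kernel

end H11.Ly3A.Data
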